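import Groth.Agent.Lib.EtDer.ResZar

/-!
# Continuity of the inclusion of the opens into the small etale site
-/

set_option autoImplicit false
set_option backward.isDefEq.respectTransparency false
set_option backward.isDefEq.respectTransparency.types false

universe u

open CategoryTheory AlgebraicGeometry Opposite TopologicalSpace GrothLib.EtDer

namespace GrothLib.FlasqueEt18

variable {X : Scheme.{u}}

theorem compatiblePreserving_zarToEt :
    CompatiblePreserving.{u + 1} X.smallEtaleTopology (EtZar.zarToEt X) := by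
  refine ⟨fun ℱ {Z T x} hx {Y₁ Y₂ V} f₁ f₂ {g₁ g₂} hg₁ hg₂ _ => ?_⟩
  have hr : Set.range V.hom ⊆ ((Y₁ ⊓ Y₂ : X.Opens) : Set X) := fun p hp =>
    ⟨range_subset_of_homZ f₁ hp, range_subset_of_homZ f₂ hp⟩
  have hr' : Set.range V.hom ⊆ Set.range (Y₁ ⊓ Y₂).ι := by
    rw [Scheme.Opens.range_ι]; exact hr
  let l : V ⟶ (EtZar.zarToEt X).obj (Y₁ ⊓ Y₂) :=
    MorphismProperty.Over.homMk (IsOpenImmersion.lift (Y₁ ⊓ Y₂).ι V.hom hr') (IsOpenImmersion.lift_fac _ _ _)
  have e := congrArg (ℱ.obj.map l.op) (hx (homOfLE (inf_le_left : Y₁ ⊓ Y₂ ≤ Y₁)) (homOfLE inf_le_right) hg₁ hg₂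
    (Subsingleton.elim _ _))
  rw [(subsingleton_homZ V Y₁).elim f₁ (l ≫ (EtZar.zarToEt X).map (homOfLE inf_le_left)),
    (subsingleton_homZ V Y₂).elim f₂ (l ≫ (EtZar.zarToEt X).map (homOfLE inf_le_right)), op_comp, op_comp,
    Functor.map_comp_apply, Functor.map_comp_apply]
  exact e

theorem coverPreserving_zarToEt :
    CoverPreserving (Opens.grothendieckTopology X) X.smallEtaleTopology (EtZar.zarToEt X) := by
  refine ⟨fun {U S} hS => ?_⟩
  rw [GrothLib.EtSite.mem_topology_iff]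
  intro p
  obtain ⟨W, k, hk, hpW⟩ := hS p.1 p.2
  refine ⟨(EtZar.zarToEt X).obj W, (EtZar.zarToEt X).map k, ⟨p.1, hpW⟩,
    Sieve.image_mem_functorPushforward _ _ hk, Subtype.ext ?_⟩
  exact congr($(X.homOfLE_ι k.le) ⟨p.1, hpW⟩)

instance isContinuous_zarToEt : EtZar.ZarCont X :=
  Functor.isContinuous_of_coverPreserving compatiblePreserving_zarToEt coverPreserving_zarToEt

end GrothLib.FlasqueEt18
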