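import Groth.Agent.Lib.EtDer.ResZar
import Groth.Agent.Lib.FlasqueEt18.Cont
import Groth.Agent.Lib.EtDer.Doubling
import Groth.Agent.Lib.EtDer.ConstSec
import Groth.Agent.Lib.EtLimit.Flasque
import Groth.Agent.Lib.EtTrace21.H1Field

/-!
# Zariski flasque sheaves are acyclic when the local rings are strictly henselian
-/

set_option autoImplicit false
set_option backward.isDefEq.respectTransparency false
set_option backward.isDefEq.respectTransparency.types false
set_option linter.style.haveILetI false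

universe u

open CategoryTheory CategoryTheory.Limits CategoryTheory.Abelian AlgebraicGeometry Opposite
open TopologicalSpace GrothLib.EtDer GrothLib.EtColim

noncomputable section

namespace GrothLib.FlasqueEt18

variable {X : Scheme.{u}}

/-- Restrictions between opens are surjective. -/
def Flasque (F : EtCoh.Ab X) : Prop :=
  ∀ (U V : X.Opens) (h : V ≤ U), Function.Surjective (((EtZar.resZar X).obj F).obj.map (homOfLE h).op)

theorem flasque_injective (I : EtCoh.Ab X) [Injective I] : Flasque I := by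
  intro U V h
  haveI : IsOpenImmersion ((EtZar.zarToEt X).map (homOfLE h)).left :=
    inferInstanceAs (IsOpenImmersion (X.homOfLE h))
  exact GrothLib.EtDer.surjective_map_of_isOpenImmersion I
    (fun W => ⟨fun a b => (GrothLib.EtLimit.subsingleton_pull_injective W I 0).elim a b⟩)
    ((EtZar.zarToEt X).map (homOfLE h))

/-- Gluing on the opens. -/
theorem exists_glue (P : EtZar.Ab X) {ι : Type*} (V : ι → X.Opens) (U : X.Opens) (hU : U = ⨆ i, V i)
    (t : ∀ i, P.obj.obj (op (V i)))
    (ht : ∀ i j (W : X.Opens) (hi : W ≤ V i) (hj : W ≤ V j),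
      P.obj.map (homOfLE hi).op (t i) = P.obj.map (homOfLE hj).op (t j)) :
    ∃ s : P.obj.obj (op U), (∀ i (hi : V i ≤ U), P.obj.map (homOfLE hi).op s = t i) ∧
      ∀ s', (∀ i (hi : V i ≤ U), P.obj.map (homOfLE hi).op s' = t i) → s' = s := by
  classical
  have hP := (isSheaf_iff_isSheaf_of_type _ _).1
    (GrothendieckTopology.HasSheafCompose.isSheaf (F := forget AddCommGrpCat.{u + 1}) P.obj P.property)
  let R : Sieve U :=
    { arrows := fun W _ => ∃ i, W ≤ V i
      downward_closed := fun {W W' _} ⟨i, hi⟩ k => ⟨i, k.le.trans hi⟩ }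
  have hR : R ∈ Opens.grothendieckTopology X U := by
    intro x hx
    rw [hU] at hx
    obtain ⟨i, hi⟩ := Opens.mem_iSup.1 hx
    exact ⟨V i, homOfLE (hU ▸ le_iSup V i), ⟨i, le_rfl⟩, hi⟩
  let x : Presieve.FamilyOfElements (P.obj ⋙ forget AddCommGrpCat.{u + 1}) R.arrows :=
    fun W _ hW => P.obj.map (homOfLE hW.choose_spec).op (t hW.choose)
  have hx : x.Compatible := fun W₁ W₂ Z g₁ g₂ f₁ f₂ h₁ h₂ _ => by
    show P.obj.map g₁.op (P.obj.map _ _) = P.obj.map g₂.op (P.obj.map _ _)
    rw [← Functor.map_comp_apply, ← Functor.map_comp_apply, ← op_comp, ← op_comp]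
    exact ht _ _ Z _ _
  obtain ⟨s, hs, hsu⟩ := hP R hR x hx
  refine ⟨s, fun i hi => ?_, fun s' hs' => hsu s' fun W k hk => ?_⟩
  · refine (hs (homOfLE hi) ⟨i, le_rfl⟩).trans ?_
    exact (ht _ i (V i) _ le_rfl).trans (by simp)
  · show P.obj.map k.op s' = P.obj.map _ (t hk.choose)
    rw [← hs' hk.choose (hU ▸ le_iSup V hk.choose), ← Functor.map_comp_apply]
    rfl

/-- Flasque kernels: surjective on sections over every open. -/
theorem surjective_app_of_flasque (hX : ∀ x : X, EtCoh.IsStrictlyHenselianLocalRing (X.presheaf.stalk x))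
    {S : ShortComplex (EtCoh.Ab X)} (hS : S.ShortExact) (hF : Flasque S.X₁) (U : X.Opens) :
    Function.Surjective (((EtZar.resZar X).map S.g).hom.app (op U)) := by
  intro s
  haveI := hS.epi_g
  haveI : Sheaf.IsLocallySurjective S.g := (Sheaf.isLocallySurjective_iff_epi' _ _).2 inferInstance
  let A := (EtZar.resZar X).obj S.X₁
  let B := (EtZar.resZar X).obj S.X₂
  let C := (EtZar.resZar X).obj S.X₃
  let g := ((EtZar.resZar X).map S.g).hom
  let f := ((EtZar.resZar X).map S.f).hom
  let L : Type (u + 1) := Σ' (V : X.Opens) (h : V ≤ U),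
    {t : B.obj.obj (op V) // g.app (op V) t = C.obj.map (homOfLE h).op s}
  let r : L → L → Prop := fun a b => ∃ h : a.1 ≤ b.1, B.obj.map (homOfLE h).op b.2.2.1 = a.2.2.1
  obtain ⟨m, hm⟩ := exists_maximal_of_chains_bounded (r := r) (fun c hc => by
    obtain ⟨t, ht, -⟩ := exists_glue B (fun a : c => a.1.1) (⨆ a : c, a.1.1) rfl (fun a => a.1.2.2.1)
      (fun a b W ha hb => by
        rcases eq_or_ne a b with rfl | hab
        · rfl
        rcases hc a.2 b.2 (fun h => hab (Subtype.ext h)) with ⟨h, e⟩ | ⟨h, e⟩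
        · rw [← e, ← Functor.map_comp_apply, ← op_comp]; rfl
        · rw [← e, ← Functor.map_comp_apply, ← op_comp]; rfl)
    have hle : (⨆ a : c, a.1.1) ≤ U := iSup_le fun a => a.1.2.1
    refine ⟨⟨⨆ a : c, a.1.1, hle, t, ?_⟩, fun a ha => ⟨le_iSup (fun a : c => a.1.1) ⟨a, ha⟩, ht ⟨a, ha⟩ _⟩⟩
    obtain ⟨_sU, -, huniq⟩ := exists_glue C (fun a : c => a.1.1) (⨆ a : c, a.1.1) rfl
      (fun a => C.obj.map (homOfLE a.1.2.1).op s) (fun a b W ha hb => by
        rw [← Functor.map_comp_apply, ← Functor.map_comp_apply, ← op_comp, ← op_comp]; rfl)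
    refine (huniq _ fun a h => ?_).trans (huniq _ fun a h => ?_).symm
    · rw [← NatTrans.naturality_apply g, ht a h]; exact a.1.2.2.2
    · rw [← Functor.map_comp_apply, ← op_comp]; rfl)
    (fun {a b c} ⟨h, e⟩ ⟨h', e'⟩ => ⟨h.trans h', by
      rw [← e, ← e', ← Functor.map_comp_apply, ← op_comp]; rfl⟩)
  obtain ⟨V, hV, t, ht⟩ := m
  have hUV : U ≤ V := fun x hx => by
    obtain ⟨W, k, t₁, ht₁, hxW⟩ : ∃ (W : X.Opens) (k : W ⟶ U) (t₁ : B.obj.obj (op W)),
        g.app (op W) t₁ = C.obj.map k.op s ∧ x ∈ W := by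
      obtain ⟨V', q, v, hq, hv⟩ := (GrothLib.EtSite.mem_topology_iff _).1
        (Presheaf.imageSieve_mem X.smallEtaleTopology S.g.hom (U := op ((EtZar.zarToEt X).obj U)) s) ⟨x, hx⟩
      obtain ⟨r, hr⟩ := hq
      haveI : Etale V'.hom := V'.prop
      obtain ⟨W, σ, hWmem, hσ⟩ := exists_open_section V'.hom v (hX _)
      have hle : W ≤ U := fun p hp => by
        have e : V'.hom.base (σ.base ⟨p, hp⟩) = p :=
          congrArg (fun k : W.toScheme ⟶ X => k.base ⟨p, hp⟩) hσ
        exact range_subset_of_homZ q ⟨σ.base ⟨p, hp⟩, e⟩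
      have hvx : V'.hom.base v = x := by
        rw [← show q.left ≫ U.ι = V'.hom from MorphismProperty.Over.w q]
        exact congrArg Subtype.val hv
      let k : (EtZar.zarToEt X).obj W ⟶ V' := MorphismProperty.Over.homMk σ hσ
      refine ⟨W, homOfLE hle, S.X₂.obj.map k.op r, ?_, hvx ▸ hWmem⟩
      refine (NatTrans.naturality_apply S.g.hom k.op r).trans ?_
      rw [hr, ← Functor.map_comp_apply, ← op_comp,
        (subsingleton_homZ _ _).elim (k ≫ q) ((EtZar.zarToEt X).map (homOfLE hle))]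
      rfl
    let D := V ⊓ W
    have hd : g.app (op D) (B.obj.map (homOfLE inf_le_left).op t -
        B.obj.map (homOfLE inf_le_right).op t₁) = 0 := by
      rw [map_sub, NatTrans.naturality_apply, NatTrans.naturality_apply, ht, ht₁, sub_eq_zero,
        ← Functor.map_comp_apply, ← Functor.map_comp_apply, ← op_comp, ← op_comp]
      rfl
    obtain ⟨c, hc⟩ := GrothLib.EtTrace21.exists_lift_sect hS _ hd
    obtain ⟨c', hc'⟩ := hF W D inf_le_right c
    let V' : Bool → X.Opens := fun b => Bool.rec W V b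
    let ts : ∀ b, B.obj.obj (op (V' b)) := fun b => Bool.rec (t₁ + f.app (op W) c') t b
    have hts : ∀ (W' : X.Opens) (h₁ : W' ≤ V) (h₂ : W' ≤ W), B.obj.map (homOfLE h₁).op t =
        B.obj.map (homOfLE h₂).op (t₁ + f.app (op W) c') := fun W' h₁ h₂ => by
      have e : B.obj.map (homOfLE (inf_le_left : D ≤ V)).op t =
          B.obj.map (homOfLE (inf_le_right : D ≤ W)).op (t₁ + f.app (op W) c') := by
        rw [map_add, ← NatTrans.naturality_apply f, hc']
        exact (eq_sub_iff_add_eq'.1 hc).symm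
      have e' := congrArg (B.obj.map (homOfLE (le_inf h₁ h₂)).op) e
      rwa [← Functor.map_comp_apply, ← Functor.map_comp_apply, ← op_comp, ← op_comp] at e'
    obtain ⟨t₂, ht₂, -⟩ := exists_glue B V' (⨆ b, V' b) rfl ts (fun i j W' hi hj => by
      cases i <;> cases j
      · rfl
      · exact (hts W' hj hi).symm
      · exact hts W' hi hj
      · rfl)
    obtain ⟨_sU, -, huniq⟩ := exists_glue C V' (⨆ b, V' b) rfl
      (fun b => C.obj.map (homOfLE (Bool.rec k.le hV b : V' b ≤ U)).op s) (fun a b W' ha hb => by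
        rw [← Functor.map_comp_apply, ← Functor.map_comp_apply, ← op_comp, ← op_comp]; rfl)
    have hle : (⨆ b, V' b) ≤ U := iSup_le fun b => Bool.rec k.le hV b
    have hfg : ∀ y, g.app (op W) (f.app (op W) y) = 0 := fun y =>
      congr($(congrArg (fun q : S.X₁ ⟶ S.X₃ => q.hom.app (op ((EtZar.zarToEt X).obj W))) S.zero) y)
    obtain ⟨h, -⟩ := hm ⟨⨆ b, V' b, hle, t₂, by
      refine (huniq _ fun b h => ?_).trans (huniq _ fun b h => ?_).symm
      · rw [← NatTrans.naturality_apply g, ht₂ b h]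
        cases b
        · show g.app (op W) (t₁ + f.app (op W) c') = _
          rw [map_add, hfg, add_zero]
          exact ht₁
        · exact ht
      · rw [← Functor.map_comp_apply, ← op_comp]; rfl⟩ ⟨le_iSup V' true, ht₂ true _⟩
    exact h (le_iSup V' false hxW)
  refine ⟨B.obj.map (homOfLE hUV).op t, ?_⟩
  refine (NatTrans.naturality_apply g _ t).trans ?_
  rw [ht, ← Functor.map_comp_apply, ← op_comp]
  simp only [homOfLE_comp, homOfLE_refl, op_id, CategoryTheory.Functor.map_id, ConcreteCategory.id_apply]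
  try rfl

theorem flasque_quotient (hX : ∀ x : X, EtCoh.IsStrictlyHenselianLocalRing (X.presheaf.stalk x))
    {S : ShortComplex (EtCoh.Ab X)} (hS : S.ShortExact) (h₁ : Flasque S.X₁) (h₂ : Flasque S.X₂) :
    Flasque S.X₃ := by
  intro U V h s
  obtain ⟨t, rfl⟩ := surjective_app_of_flasque hX hS h₁ V s
  obtain ⟨t', rfl⟩ := h₂ U V h t
  exact ⟨_, (NatTrans.naturality_apply ((EtZar.resZar X).map S.g).hom _ t').symm⟩

/-- The open `⊤` as the final object. -/
def topHom : EtCoh.top X ⟶ (EtZar.zarToEt X).obj ⊤ :=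
  MorphismProperty.Over.homMk X.topIso.inv (by
    show X.topIso.inv ≫ (⊤ : X.Opens).ι = 𝟙 X
    exact X.topIso.inv_hom_id)

theorem subsingleton_H (hX : ∀ x : X, EtCoh.IsStrictlyHenselianLocalRing (X.presheaf.stalk x)) :
    ∀ (n : ℕ) (F : EtCoh.Ab X), Flasque F → Subsingleton (EtCoh.H X F (n + 1)) := by
  intro n
  induction n with
  | zero =>
    intro F hF
    have hS := GrothLib.EtTrace21.injS_shortExact F
    haveI : Injective (GrothLib.EtTrace21.injS F).X₂ := inferInstanceAs (Injective (Injective.under F))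
    refine subsingleton_of_forall_eq 0 fun x => ?_
    obtain ⟨c₀, rfl⟩ := Ext.covariant_sequence_exact₁ _ hS x (Ext.eq_zero_of_injective _) rfl
    obtain ⟨φ, rfl⟩ := (Ext.mk₀_bijective _ _).2 c₀
    let toTp : (EtZar.zarToEt X).obj ⊤ ⟶ EtCoh.top X := (EtCore.topIsTerminal X).from _
    obtain ⟨t, ht⟩ := surjective_app_of_flasque hX hS hF ⊤
      ((GrothLib.EtTrace21.injS F).X₃.obj.map toTp.op (evOne _ φ))
    obtain ⟨ψ, hψ⟩ := (bijective_evOne _).2 ((GrothLib.EtTrace21.injS F).X₂.obj.map topHom.op t)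
    have hψφ : ψ ≫ (GrothLib.EtTrace21.injS F).g = φ := by
      refine (bijective_evOne _).1 ?_
      show (GrothLib.EtTrace21.injS F).g.hom.app (op (EtCoh.top X)) (evOne _ ψ) = _
      rw [hψ, NatTrans.naturality_apply]
      refine (congrArg _ ht).trans ?_
      rw [← Functor.map_comp_apply, ← op_comp, (EtCore.topIsTerminal X).hom_ext (topHom ≫ toTp) (𝟙 _), op_id,
        CategoryTheory.Functor.map_id]
      rfl
    rw [← hψφ, ← Ext.mk₀_comp_mk₀, Ext.comp_assoc_of_second_deg_zero, hS.comp_extClass, Ext.comp_zero]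
  | succ n ih =>
    intro F hF
    have hS := GrothLib.EtTrace21.injS_shortExact F
    haveI : Injective (GrothLib.EtTrace21.injS F).X₂ := inferInstanceAs (Injective (Injective.under F))
    refine subsingleton_of_forall_eq 0 fun x => ?_
    obtain ⟨c₀, rfl⟩ := Ext.covariant_sequence_exact₁ _ hS x (Ext.eq_zero_of_injective _)
      (show n + 1 + 1 = n + 1 + 1 from rfl)
    haveI := ih _ (flasque_quotient hX hS hF (flasque_injective _))
    rw [Subsingleton.elim c₀ 0, Ext.zero_comp]

/-- Constant sheaves on irreducible schemes are flasque. -/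
theorem flasque_const [PreirreducibleSpace X] (M : AddCommGrpCat.{u + 1}) : Flasque (CM M X) := by
  intro U V h s
  let OV := (EtZar.zarToEt X).obj V
  let OU := (EtZar.zarToEt X).obj U
  rcases isEmpty_or_nonempty V with hV | ⟨⟨v₀⟩⟩
  · exact ⟨0, ext_val M OV _ _ fun v => (hV.false v).elim⟩
  refine ⟨cst M OU (val M OV s v₀), ext_val M OV _ _ fun v => ?_⟩
  haveI : PreirreducibleSpace V := Subtype.preirreducibleSpace
    ((PreirreducibleSpace.isPreirreducible_univ (X := X)).open_subset V.2 (Set.subset_univ _))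
  haveI : PreconnectedSpace OV.left := inferInstanceAs (PreconnectedSpace V)
  refine (val_map M ((EtZar.zarToEt X).map (homOfLE h)) _ v).trans ((val_cst M _ _ _).trans ?_)
  exact (isLocallyConstant_val M OV s).apply_eq_of_preconnectedSpace v₀ v

end GrothLib.FlasqueEt18
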